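import Cfsg.Agent.H531.GU.Neck
import Cfsg.Agent.H521.GU.Compl

/-!
# S4537, R1 (global completeness): every function of the types of degree `n` is `evR x` (helper941)

* `LocSpan t` : local completeness (`loc_span` of helper521);
* `Four rho N`, `four` : Fourier inversion, the local power sum at one orbit is in the image;
* `exists_loc` , `exists_delta`, `exists_evR_of` : the global statement from these;
* `exists_evR_eq` : **(R1)**; `exists_evR_typ` : for class functions; `exists_one_typ` : `[g = 1]`.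
-/

set_option autoImplicit false
set_option linter.unusedSectionVars false

open scoped ComplexConjugate
open Cfsg Cfsg.Agent.H615.GU Cfsg.Agent.H315.GU Cfsg.Agent.H577.GLB.Std

namespace Cfsg.Agent.H941.GU

open Cfsg.Agent.H531.GU (I2S exists_rho lft_apply)

/-! ### homogeneous elements -/

section hom

variable {Q : ℤ} {M : ℕ}

theorem Hom_mul {i j : ℕ} {x y : RS M} (hx : x ∈ Hom Q M i) (hy : y ∈ Hom Q M j) : x * y ∈ Hom Q M (i + j) :=
  ⟨(GenR Q M).mul_mem hx.1 hy.1, MvPolynomial.IsWeightedHomogeneous.mul hx.2 hy.2⟩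

theorem Hom_one : (1 : RS M) ∈ Hom Q M 0 :=
  ⟨(GenR Q M).one_mem, MvPolynomial.isWeightedHomogeneous_one ℂ _⟩

theorem Hom_rv (k : ℕ) (c : ZMod M) : rv Q M k c ∈ Hom Q M k := by
  refine ⟨Algebra.subset_adjoin ⟨(k, c), rfl⟩, ?_⟩
  change MvPolynomial.IsWeightedHomogeneous (fun v : Var M => v.1) (rv Q M k c) k
  unfold rv
  split_ifs
  · exact MvPolynomial.isWeightedHomogeneous_X ℂ (fun v : Var M => v.1) _
  · exact MvPolynomial.isWeightedHomogeneous_zero ℂ _ _

end hom

/-! ### the local and the Fourier input -/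

/-- local completeness -/
def LocSpan (t : ℂ) : Prop := ∀ (n : ℕ) (f : Col → ℂ), (∀ l, f l ≠ 0 → l.size = n) →
  f ∈ Submodule.span ℂ {g : Col → ℂ | ∃ L : List ℕ, (∀ i ∈ L, 0 < i) ∧ L.sum = n ∧ g = (L.map (Pl t)).prod vacl}

section glob

variable {K : Type*} [Field K] [Finite K] {θ : K →*₀ ℂ} {Q : ℤ} {M : ℕ}

/-- Fourier inversion: the local power sum at `o` is a combination of the operators `rho (rv k c)` -/
def Four (rho : RS M →ₐ[ℂ] Module.End ℂ (Ty (Orb K Q) → ℂ)) (N : ℕ) : Prop :=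
  ∀ (o : Orb K Q) (m : ℕ), 0 < m → dOrb K Q o * m ≤ N →
    ∃ z ∈ Hom Q M (dOrb K Q o * m), rho z = lft o (Pl ((Q : ℂ) ^ dOrb K Q o) m)

variable {rho : RS M →ₐ[ℂ] Module.End ℂ (Ty (Orb K Q) → ℂ)} {N : ℕ}

theorem exists_word (hF : Four rho N) (o : Orb K Q) (L : List ℕ) (hL : ∀ i ∈ L, 0 < i) (hN : dOrb K Q o * L.sum ≤ N) :
    ∃ z ∈ Hom Q M (dOrb K Q o * L.sum), rho z = lft o (L.map (Pl ((Q : ℂ) ^ dOrb K Q o))).prod := by
  induction L with
  | nil =>
    refine ⟨1, ?_, ?_⟩
    · rw [List.sum_nil, mul_zero]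
      exact Hom_one
    · rw [map_one, List.map_nil, List.prod_nil, map_one]
  | cons a L ih =>
    rw [List.sum_cons, mul_add] at hN
    obtain ⟨z, hz, hz'⟩ := ih (fun i hi => hL i (List.mem_cons_of_mem a hi)) (by omega)
    obtain ⟨y, hy, hy'⟩ := hF o a (hL a List.mem_cons_self) (by omega)
    refine ⟨y * z, ?_, ?_⟩
    · rw [List.sum_cons, mul_add]
      exact Hom_mul hy hz
    · rw [map_mul, hy', hz', List.map_cons, List.prod_cons, map_mul]

theorem exists_loc {o : Orb K Q} (hL : LocSpan ((Q : ℂ) ^ dOrb K Q o)) (hF : Four rho N) (l : Col)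
    (hN : dOrb K Q o * l.size ≤ N) :
    ∃ z ∈ Hom Q M (dOrb K Q o * l.size), ∃ A : Module.End ℂ (Col → ℂ), rho z = lft o A ∧
      A vacl = fun c => (open Classical in if c = l then 1 else 0) := by
  classical
  have h1 := hL l.size (fun c => if c = l then 1 else 0) (by
    intro c hc
    have : c = l := by
      by_contra h
      exact hc (if_neg h)
    rw [this])
  generalize hg : (fun c : Col => if c = l then (1 : ℂ) else 0) = g at h1 ⊢
  clear hg
  induction h1 using Submodule.span_induction with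
  | mem g hg =>
    obtain ⟨L, h0, hs, rfl⟩ := hg
    obtain ⟨z, hz, hz'⟩ := exists_word hF o L h0 (by rw [hs]; exact hN)
    rw [hs] at hz
    exact ⟨z, hz, _, hz', rfl⟩
  | zero => exact ⟨0, Submodule.zero_mem _, 0, by rw [map_zero, map_zero], by rw [LinearMap.zero_apply]⟩
  | add g g' _ _ h h' =>
    obtain ⟨z, hz, A, hA, hA'⟩ := h
    obtain ⟨y, hy, B, hB, hB'⟩ := h'
    exact ⟨z + y, Submodule.add_mem _ hz hy, A + B, by rw [map_add, map_add, hA, hB],
      by rw [LinearMap.add_apply, hA', hB']⟩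
  | smul a g _ h =>
    obtain ⟨z, hz, A, hA, hA'⟩ := h
    exact ⟨a • z, Submodule.smul_mem _ _ hz, a • A, by rw [map_smul, map_smul, hA],
      by rw [LinearMap.smul_apply, hA']⟩

open Classical in
/-- the characteristic function of a type -/
noncomputable def dl {I : Type*} (lam : Ty I) : Ty I → ℂ := fun mu => if mu = lam then 1 else 0

theorem dl_zero {I : Type*} : (dl (0 : Ty I)) = vac := rfl

theorem lft_dl {I : Type*} {o : I} {lam : Ty I} (ho : lam o = 0) (l : Col) {A : Module.End ℂ (Col → ℂ)}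
    (hA : A vacl = fun c => (open Classical in if c = l then 1 else 0)) : lft o A (dl lam) = dl (lam.update o l) := by
  classical
  funext mu
  rw [lft_apply]
  have h1 : (fun c => dl lam (mu.update o c)) = dl lam (mu.update o 0) • vacl := by
    funext c
    rw [Pi.smul_apply, smul_eq_mul, vacl]
    by_cases hc : c = 0
    · rw [hc, if_pos rfl, mul_one]
    · rw [if_neg hc, mul_zero, dl, if_neg]
      intro h
      apply hc
      have h2 := DFunLike.congr_fun h o
      rw [Finsupp.coe_update, Function.update_self, ho] at h2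
      exact h2
  rw [h1, map_smul, hA, Pi.smul_apply, smul_eq_mul]
  unfold dl
  by_cases h : mu = lam.update o l
  · rw [if_pos h, if_pos, if_pos, mul_one]
    · rw [h, Finsupp.coe_update, Function.update_self]
    · rw [h]
      ext1 i
      simp only [Finsupp.coe_update]
      by_cases hi : i = o
      · subst hi
        rw [Function.update_self, ho]
      · rw [Function.update_of_ne hi, Function.update_of_ne hi]
  · rw [if_neg h]
    by_cases h1 : mu o = l
    · rw [if_neg, zero_mul]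
      intro h2
      apply h
      ext1 i
      rw [← h2]
      simp only [Finsupp.coe_update]
      by_cases hi : i = o
      · subst hi
        rw [Function.update_self, h1]
      · rw [Function.update_of_ne hi, Function.update_of_ne hi]
    · rw [if_neg h1, mul_zero]

theorem tdeg_update {I : Type*} (d : I → ℕ) {lam : Ty I} {o : I} (ho : lam o = 0) (l : Col) :
    tdeg d (lam.update o l) = d o * l.size + tdeg d lam := by
  classical
  unfold tdeg
  have h1 : (lam.update o l).support ⊆ insert o lam.support := by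
    intro i hi
    rw [Finset.mem_insert]
    by_cases h : i = o
    · exact Or.inl h
    · right
      rw [Finsupp.mem_support_iff, Finsupp.coe_update, Function.update_of_ne h] at hi
      exact Finsupp.mem_support_iff.2 hi
  rw [Finsupp.sum_of_support_subset _ h1 _ (fun i _ => by rw [Col.size_zero, mul_zero]),
    Finset.sum_insert (fun h => (Finsupp.mem_support_iff.1 h) ho), Finsupp.coe_update, Function.update_self]
  congr 1
  refine Finset.sum_congr rfl fun i hi => ?_
  rw [Function.update_of_ne]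
  rintro rfl
  exact (Finsupp.mem_support_iff.1 hi) ho

/-- the characteristic functions of the types are in the image -/
theorem exists_delta (hL : ∀ o : Orb K Q, LocSpan ((Q : ℂ) ^ dOrb K Q o)) (hF : Four rho N) (r : ℕ) :
    ∀ lam : Ty (Orb K Q), lam.support.card = r → tdeg (dOrb K Q) lam ≤ N →
      ∃ z ∈ Hom Q M (tdeg (dOrb K Q) lam), rho z vac = dl lam := by
  classical
  induction r with
  | zero =>
    intro lam hlam _
    have h0 : lam = 0 := by
      rw [Finset.card_eq_zero, Finsupp.support_eq_empty] at hlam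
      exact hlam
    subst h0
    refine ⟨1, ?_, ?_⟩
    · have : tdeg (dOrb K Q) (0 : Ty (Orb K Q)) = 0 := Finsupp.sum_zero_index
      rw [this]
      exact Hom_one
    · rw [map_one, Module.End.one_apply, dl_zero]
  | succ r ih =>
    intro lam hlam hN
    obtain ⟨o, ho⟩ : lam.support.Nonempty := by
      rw [← Finset.card_pos, hlam]
      omega
    have he0 : (lam.erase o) o = 0 := Finsupp.erase_same
    have he : (lam.erase o).update o (lam o) = lam := by
      ext1 i
      rw [Finsupp.coe_update]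
      by_cases hi : i = o
      · rw [hi, Function.update_self]
      · rw [Function.update_of_ne hi, Finsupp.erase_ne hi]
    have hd := tdeg_update (dOrb K Q) he0 (lam o)
    rw [he] at hd
    obtain ⟨z, hz, hz'⟩ := ih (lam.erase o) (by
      rw [Finsupp.support_erase, Finset.card_erase_of_mem ho, hlam, Nat.add_sub_cancel]) (by omega)
    obtain ⟨y, hy, A, hA, hA'⟩ := exists_loc (hL o) hF (lam o) (by omega)
    refine ⟨y * z, ?_, ?_⟩
    · rw [hd]
      exact Hom_mul hy hz
    · rw [map_mul, Module.End.mul_apply, hz', hA, lft_dl he0 (lam o) hA', he]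

/-- **(R1)** from local completeness and Fourier inversion -/
theorem exists_evR_of (h2 : I2S) (hL : ∀ o : Orb K Q, LocSpan ((Q : ℂ) ^ dOrb K Q o))
    (hF : ∀ rho : RS M →ₐ[ℂ] Module.End ℂ (Ty (Orb K Q) → ℂ),
      (∀ v : Var M, rho (MvPolynomial.X v) = Pop θ Q M v.1 v.2) → Four rho N)
    (hd : ∀ o : Orb K Q, 0 < dOrb K Q o) {n : ℕ} (hn : n ≤ N) (f : Ty (Orb K Q) → ℂ)
    (hf : ∀ lam, f lam ≠ 0 → tdeg (dOrb K Q) lam = n) : ∃ x ∈ Hom Q M n, evR θ Q M x = f := by
  classical
  obtain ⟨rho, h, h'⟩ := exists_rho θ Q M h2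
  have hfin : {lam : Ty (Orb K Q) | tdeg (dOrb K Q) lam = n}.Finite :=
    finite_tofDeg (dOrb K Q) hd (fun _ => Set.toFinite _) n
  have key : ∀ lam : Ty (Orb K Q), tdeg (dOrb K Q) lam = n → ∃ z ∈ Hom Q M n, evR θ Q M z = dl lam := by
    intro lam hlam
    obtain ⟨z, hz, hz'⟩ := exists_delta hL (hF rho h) _ lam rfl (by omega)
    rw [hlam] at hz
    exact ⟨z, hz, by rw [h', hz']⟩
  choose! z hz hz' using key
  refine ⟨∑ lam ∈ hfin.toFinset, f lam • z lam, Submodule.sum_mem _ fun lam hlam => Submodule.smul_mem _ _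
    (hz lam (hfin.mem_toFinset.1 hlam)), ?_⟩
  rw [map_sum]
  funext mu
  rw [Finset.sum_apply]
  have h3 : ∀ lam ∈ hfin.toFinset, evR θ Q M (f lam • z lam) mu = if mu = lam then f mu else 0 := by
    intro lam hlam
    rw [map_smul, hz' lam (hfin.mem_toFinset.1 hlam), Pi.smul_apply, smul_eq_mul, dl]
    split_ifs with h4
    · rw [mul_one, h4]
    · rw [mul_zero]
  rw [Finset.sum_congr rfl h3, Finset.sum_ite_eq, ite_eq_left_iff]
  intro h4
  by_contra h5
  exact h4 (hfin.mem_toFinset.2 (hf mu (Ne.symm h5)))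

/-- the sum of the powers of a root of unity -/
theorem geom_root {w : ℂ} {T : ℕ} (hw : w ^ T = 1) : ∑ a ∈ Finset.range T, w ^ a = if w = 1 then (T : ℂ) else 0 := by
  split_ifs with h
  · subst h
    simp
  · rw [geom_sum_eq h, hw, sub_self, zero_div]

open H531.GU (thA theta_ne pow_of_dvd thA_congr thO_eq expoZ_intCast TorZ_intCast Pop_eq Pop_canon dOrb_pos) in
/-- **Fourier inversion** -/
theorem four (h : CtxQ θ Q M N) {rho : RS M →ₐ[ℂ] Module.End ℂ (Ty (Orb K Q) → ℂ)}
    (hr : ∀ v : Var M, rho (MvPolynomial.X v) = Pop θ Q M v.1 v.2) : Four rho N := by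
  classical
  have := H531.GU.CtxQ.neM h
  intro o m hm hN
  obtain ⟨x0, hx0⟩ := Quotient.exists_rep o
  set k := dOrb K Q o * m with hk
  have hk0 : 0 < k := Nat.mul_pos (dOrb_pos o) hm
  have hdvd := h.dvd k hk0 hN
  have hD : Q ^ k - 1 ≠ 0 := by
    intro h0
    have h1 : Q ^ k = 1 := by linarith
    have h2 : |Q| ^ k = 1 := by rw [← abs_pow, h1, abs_one]
    have h3 := one_lt_pow₀ (lt_of_lt_of_le one_lt_two h.two) hk0.ne'
    omega
  set T := (Q ^ k - 1).natAbs with hT
  have hT0 : (T : ℂ) ≠ 0 := by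
    rw [hT, Nat.cast_ne_zero, Int.natAbs_ne_zero]
    exact hD
  let cc : ℕ → ZMod M := fun a => ((((a : ℤ) * ((M : ℤ) / (Q ^ k - 1)) : ℤ)) : ZMod M)
  have hrv : ∀ a, rho (rv Q M k (cc a)) = Pop θ Q M k (cc a) := by
    intro a
    have h1 := TorZ_intCast (M := M) hdvd (a : ℤ)
    rw [rv, if_pos ⟨hk0, h1⟩, hr, Pop_canon θ h.card h.unit h1]
  -- the Fourier sum
  have hsum : ∀ o' : Orb K Q, dOrb K Q o' ∣ k →
      ∑ a ∈ Finset.range T, θ (x0 : K) ^ (-(a : ℤ)) * thO θ Q M k (cc a) o' = if o' = o then (T : ℂ) else 0 := by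
    intro o' ho'
    have := Fintype.ofFinite {y : Kˣ // (Quotient.mk (orbSetoid K Q) y) = o'}
    have h1 : ∀ a ∈ Finset.range T, θ (x0 : K) ^ (-(a : ℤ)) * thO θ Q M k (cc a) o' =
        ∑ y : {y : Kˣ // (Quotient.mk (orbSetoid K Q) y) = o'}, (θ ((y : Kˣ) : K) / θ (x0 : K)) ^ a := by
      intro a _
      rw [thO_eq, thA_congr θ h.card h.unit ho' (expoZ_intCast hdvd (a : ℤ)), thA, finsum_eq_sum_of_fintype,
        Finset.mul_sum]
      refine Finset.sum_congr rfl fun y _ => ?_
      rw [div_pow, zpow_neg, zpow_natCast, zpow_natCast, div_eq_mul_inv, mul_comm]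
    rw [Finset.sum_congr rfl h1, Finset.sum_comm]
    have hpow : ∀ y : Kˣ, y ^ (Q ^ k) = y → θ (y : K) ^ T = 1 := by
      intro y hy
      have h2 : y ^ (Q ^ k - 1) = 1 := by rw [zpow_sub, zpow_one, hy, mul_inv_cancel]
      have h3 : y ^ T = 1 := by
        rw [← zpow_natCast, hT]
        rcases Int.natAbs_eq (Q ^ k - 1) with h4 | h4
        · rw [← h4, h2]
        · have h5 : (((Q ^ k - 1).natAbs : ℕ) : ℤ) = -(Q ^ k - 1) := by linarith
          rw [h5, zpow_neg, h2, inv_one]
      rw [← map_pow, ← Units.val_pow_eq_pow_val, h3, Units.val_one, map_one]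
    have hx0' : θ (x0 : K) ^ T = 1 := hpow x0 (pow_of_dvd h.card h.unit hx0 ⟨m, hk⟩)
    have h6 : ∀ y : {y : Kˣ // (Quotient.mk (orbSetoid K Q) y) = o'},
        ∑ a ∈ Finset.range T, (θ ((y : Kˣ) : K) / θ (x0 : K)) ^ a = if (y : Kˣ) = x0 then (T : ℂ) else 0 := by
      intro y
      rw [geom_root (by rw [div_pow, hpow _ (pow_of_dvd h.card h.unit y.2 ho'), hx0', div_one])]
      refine if_congr ?_ rfl rfl
      rw [div_eq_one_iff_eq (theta_ne θ x0)]
      exact ⟨fun h7 => Units.ext (h.inj h7), fun h7 => by rw [h7]⟩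
    rw [Finset.sum_congr rfl fun y _ => h6 y]
    split_ifs with ho
    · subst ho
      rw [Finset.sum_eq_single (⟨x0, hx0⟩ : {y : Kˣ // (Quotient.mk (orbSetoid K Q) y) = o'})]
      · rw [if_pos rfl]
      · intro y _ hy
        rw [if_neg]
        intro h7
        exact hy (Subtype.ext h7)
      · intro h7
        exact absurd (Finset.mem_univ _) h7
    · refine Finset.sum_eq_zero fun y _ => ?_
      rw [if_neg]
      intro h7
      apply ho
      rw [← y.2, h7]
      exact hx0
  refine ⟨(T : ℂ)⁻¹ • ∑ a ∈ Finset.range T, θ (x0 : K) ^ (-(a : ℤ)) • rv Q M k (cc a),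
    Submodule.smul_mem _ _ (Submodule.sum_mem _ fun a _ => Submodule.smul_mem _ _ (Hom_rv _ _)), ?_⟩
  rw [map_smul, map_sum]
  have h8 : ∑ a ∈ Finset.range T, rho (θ (x0 : K) ^ (-(a : ℤ)) • rv Q M k (cc a)) =
      (T : ℂ) • lft o (Pl ((Q : ℂ) ^ dOrb K Q o) m) := by
    have h9 : ∀ a ∈ Finset.range T, rho (θ (x0 : K) ^ (-(a : ℤ)) • rv Q M k (cc a)) =
        ∑ o' : Orb K Q, (if dOrb K Q o' ∣ k then (θ (x0 : K) ^ (-(a : ℤ)) * thO θ Q M k (cc a) o') •
          lft o' (Pl ((Q : ℂ) ^ dOrb K Q o') (k / dOrb K Q o')) else 0) := by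
      intro a _
      rw [map_smul, hrv, Pop_eq, Finset.smul_sum]
      refine Finset.sum_congr rfl fun o' _ => ?_
      by_cases h10 : dOrb K Q o' ∣ k
      · rw [if_pos ⟨hk0, h10⟩, if_pos h10, smul_smul, H531.GU.Pl_eq]
      · rw [if_neg (fun h11 => h10 h11.2), if_neg h10, smul_zero]
    rw [Finset.sum_congr rfl h9, Finset.sum_comm, Finset.sum_eq_single o]
    · have h12 : dOrb K Q o ∣ k := ⟨m, hk⟩
      simp only [if_pos h12]
      rw [← Finset.sum_smul, hsum o h12, if_pos rfl, hk, Nat.mul_div_cancel_left _ (dOrb_pos o)]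
    · intro o' _ ho'
      by_cases h10 : dOrb K Q o' ∣ k
      · simp only [if_pos h10]
        rw [← Finset.sum_smul, hsum o' h10, if_neg ho', zero_smul]
      · simp only [if_neg h10]
        exact Finset.sum_const_zero
    · intro h13
      exact absurd (Finset.mem_univ _) h13
  rw [h8, smul_smul, inv_mul_cancel₀ hT0, one_smul]

theorem gen_pow (hQ : 2 ≤ |Q|) {e : ℕ} (he : 0 < e) : ((Q : ℂ) ^ e) ≠ 0 ∧ ∀ i : ℕ, 0 < i → ((Q : ℂ) ^ e) ^ i ≠ 1 := by
  have hQ0 : Q ≠ 0 := by
    rintro rfl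
    simp at hQ
  refine ⟨pow_ne_zero _ (by exact_mod_cast hQ0), fun j hj h1 => ?_⟩
  rw [← pow_mul] at h1
  have h2 : Q ^ (e * j) = 1 := by exact_mod_cast h1
  have h3 : |Q| ^ (e * j) = 1 := by rw [← abs_pow, h2, abs_one]
  have h4 : 1 < |Q| ^ (e * j) := one_lt_pow₀ (by omega) (Nat.mul_pos he hj).ne'
  omega

end glob

section final

variable {K : Type*} [Field K] {θ : K →*₀ ℂ} {Q : ℤ} {M N : ℕ}

/-- **(R1)** every function of the types of degree `n ≤ N` is the evaluation of an element of `Hom Q M n` -/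
theorem exists_evR_eq (h : CtxQ θ Q M N) {n : ℕ} (hn : n ≤ N) (f : Ty (Orb K Q) → ℂ)
    (hf : ∀ lam, f lam ≠ 0 → tdeg (dOrb K Q) lam = n) : ∃ x ∈ Hom Q M n, evR θ Q M x = f := by
  have := h.finK
  refine exists_evR_of H521.GU.i2s (fun o => ?_) (fun rho hr => four h hr) H531.GU.dOrb_pos hn f hf
  obtain ⟨h0, ht⟩ := gen_pow h.two (H531.GU.dOrb_pos o)
  exact fun n f hf => H521.GU.loc_span h0 ht n f hf

/-- **(R1)** every class function is the evaluation of an element of `Hom Q M n` -/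
theorem exists_evR_typ (h : CtxQ θ Q M N) {n : ℕ} (hn : n ≤ N) {G : Type*} [Group G]
    (T : TypeData (dOrb K Q) Q G n) (f : G → ℂ) (hf : ∀ g x : G, f (x * g * x⁻¹) = f g) :
    ∃ x ∈ Hom Q M n, ∀ g, evR θ Q M x (T.typ g) = f g := by
  classical
  obtain ⟨x, hx, hx'⟩ := exists_evR_eq h hn (fun lam => if hl : ∃ g : G, T.typ g = lam then f hl.choose else 0)
    (fun lam hl => by
      by_cases h1 : ∃ g : G, T.typ g = lam
      · rw [← h1.choose_spec]
        exact T.deg _
      · exact absurd (dif_neg h1) hl)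
  refine ⟨x, hx, fun g => ?_⟩
  rw [hx']
  have h1 : ∃ g' : G, T.typ g' = T.typ g := ⟨g, rfl⟩
  simp only []
  rw [dif_pos h1]
  obtain ⟨c, hc⟩ := isConj_iff.1 (T.sep _ _ h1.choose_spec)
  exact (hf _ c).symm.trans (congrArg f hc)

/-- **(R1)** the hypothesis `h1` of `bij_of_neck` : the function `[g = 1]` is in the image -/
theorem exists_one_typ (h : CtxQ θ Q M N) {n : ℕ} (hn : n ≤ N) {G : Type*} [Group G]
    (T : TypeData (dOrb K Q) Q G n) :
    ∃ x ∈ Hom Q M n, (∀ g : G, g ≠ 1 → evR θ Q M x (T.typ g) = 0) ∧ evR θ Q M x (T.typ 1) ≠ 0 := by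
  classical
  obtain ⟨x, hx, hx'⟩ := exists_evR_typ h hn T (fun g => if g = 1 then 1 else 0) (fun g x => by
    refine if_congr ⟨fun h1 => ?_, fun h1 => by rw [h1, mul_one, mul_inv_cancel]⟩ rfl rfl
    have h2 : x * g = x := by rw [← mul_inv_eq_one]; exact h1
    exact mul_eq_left.1 h2)
  refine ⟨x, hx, fun g hg => by rw [hx', if_neg hg], ?_⟩
  rw [hx', if_pos rfl]
  exact one_ne_zero

end final

end Cfsg.Agent.H941.GU
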