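import Cfsg.Agent.H941.GU.Complete
import Cfsg.Agent.H623.GU.Geo
import Cfsg.Agent.H623.GU.WeilGL
import Cfsg.Agent.H531.GU.R2
import Cfsg.Agent.H531.GU.Eig
import Cfsg.Agent.H794.GUT.Fin
import Cfsg.Agent.H697.GW.DetPreg
import Cfsg.Agent.H501.GU.Tau

/-!
# S4537: the towers of the unitary and of the linear groups (helper941)

* `rzHyp_of` : (R2) and (R4) in group form; `exists_tow` : the tower from the types, the Weil kernels and `mcol`;
* `towU` : the groups `GU_n(q)`, `n ≤ N`; `towG` : the groups `GL_n(F)`, `n ≤ N`;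
* `tau1_of`, `tau1_U` : the hypothesis `htau1` of `GB5.Rz.sameBlock_of_fam`.
-/

set_option autoImplicit false
set_option linter.unusedSectionVars false

open Cfsg
open scoped ComplexConjugate TensorProduct MatrixGroups Polynomial

namespace Cfsg.Agent.H941.GU

open Cfsg.Agent.H577.GLB.Std Cfsg.Agent.H615.GU Cfsg.Agent.H623.GU
open Cfsg.Agent.H112.GLB Cfsg.Agent.H608.BlockRank Cfsg.Agent.H531.GU

universe u v

section gen

variable {K : Type v} [Field K] {θ : K →*₀ ℂ} {Q : ℤ} {M N p : ℕ} [NeZero M]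

theorem evR_mul [Finite K] (v : Var M) (x : RS M) :
    H615.GU.evR θ Q M (MvPolynomial.X v * x) = Pop θ Q M v.1 v.2 (H615.GU.evR θ Q M x) :=
  evR_X_mul θ Q M H521.GU.i2s v x

/-- (R2) and (R4) in group form -/
theorem rzHyp_of (ctx : CtxQ θ Q M N) (hp : p.Prime) {n : ℕ} (hn : n ≤ N) {X : Type u} [Group X] [Finite X]
    (T : TypeData (dOrb K Q) Q X n) (hpr : ∀ g : X, PregT Q p (T.typ g) ↔ ¬ p ∣ orderOf g) : RzHyp θ M p T where
  unit := ctx.unit
  iso := fun x hx y hy => R2 ctx hn T hx hy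
  tau := fun x hx => by
    classical
    have := ctx.finK
    funext g
    have h4 := H501.GU.evR_tauP ctx.card ctx.unit ctx.inj hp ctx.dvd evR_mul hx.1 (T.typ g) (by rw [T.deg]; exact hn)
    rw [omT_apply, h4]
    by_cases h : IsPRegular p g
    · have h1 : pReg p (omT θ M T x) g = omT θ M T x g := if_pos h
      rw [h1, if_pos ((hpr g).2 h), omT_apply]
    · have h1 : pReg p (omT θ M T x) g = 0 := if_neg h
      rw [h1, if_neg (fun h1 => h ((hpr g).1 h1))]

open Classical in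
/-- the hypothesis `htau1` of `GB5.Rz.sameBlock_of_fam` -/
theorem tau1_of {F : Type u} [Field F] [Algebra F K] {M' : ℕ} (ctx : CtxQ θ Q M N) (C : H614.GLn.Ctx F θ N M')
    (hp : p.Prime) (hpF : (p : F) ≠ 0) {n : ℕ} (hn : n ≤ N) {X : Type u} [Group X]
    (T : TypeData (dOrb K Q) Q X n) (ρ : X →* GL (Fin n) F) (hρ : Function.Injective ρ)
    (hT : ∀ (g : X) (y : Kˣ), T.typ g (Quotient.mk (orbSetoid K Q) y) = mcol ((ρ g : Matrix (Fin n) (Fin n) F)) (y : K)) :
    ∀ x ∈ Hom Q M n, ∀ g, omT θ M T (H941.GLn.FamOne.tau1 Q M p x) g = (if p ^ 2 ∣ orderOf g then 0 else 1) * omT θ M T x g := by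
  intro x hx g
  have := ctx.finK
  have := C.finF
  have h4 := H501.GU.evR_tau1 ctx.card ctx.unit ctx.inj hp ctx.dvd evR_mul hx.1 (T.typ g) (by rw [T.deg]; exact hn)
  have h5 := H697.GW.pow_dvd_orderOf_iff (K := K) (Q := Q) (lam := T.typ g) (g := ρ g)
    (fun h h1 h2 => C.spl h h1 (h2.trans hn)) hp hpF (hT g) (k := 2) two_pos
  rw [orderOf_injective ρ hρ g] at h5
  rw [omT_apply, h4, omT_apply]
  by_cases h : p ^ 2 ∣ orderOf g
  · obtain ⟨y, hy, hy'⟩ := h5.1 h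
    rw [if_pos h, zero_mul, if_neg]
    intro h6
    exact h6 y hy hy'
  · rw [if_neg h, one_mul, if_pos]
    intro y hy hy'
    exact h (h5.2 ⟨y, hy, hy'⟩)

/-- **the tower from the types** -/
theorem exists_tow {F : Type u} [Field F] [Algebra F K] {M' : ℕ} (ctx : CtxQ θ Q M N) (C : H614.GLn.Ctx F θ N M')
    (hp : p.Prime) (hpF : (p : F) ≠ 0) {G : ℕ → Type u} [∀ n, Group (G n)] [∀ n, Finite (G n)]
    (T : ∀ n, n ≤ N → TypeData (dOrb K Q) Q (G n) n) (ρ : ∀ n, G n →* GL (Fin n) F)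
    (hρ : ∀ n, Function.Injective (ρ n))
    (hT : ∀ n (hn : n ≤ N) (g : G n) (y : Kˣ),
      (T n hn).typ g (Quotient.mk (orbSetoid K Q) y) = mcol ((ρ n g : Matrix (Fin n) (Fin n) F)) (y : K))
    (hW : WInt T) : ∃ t : Tow θ Q M N p G, t.T = T := by
  have := ctx.finK
  have := C.finF
  have hpr : ∀ n (hn : n ≤ N) (g : G n), PregT Q p ((T n hn).typ g) ↔ ¬ p ∣ orderOf g := fun n hn g => by
    rw [← H697.GW.preg_iff (K := K) (Q := Q) (lam := (T n hn).typ g) (g := ρ n g)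
      (fun h h1 h2 => C.spl h h1 (h2.trans hn)) hp hpF (hT n hn g), orderOf_injective (ρ n) (hρ n) g,
      Nat.coprime_comm, hp.coprime_iff_not_dvd]
  have h : ∀ n (hn : n ≤ N), RzHyp θ M p (T n hn) := fun n hn => rzHyp_of ctx hp hn (T n hn) (hpr n hn)
  have hdel : ∀ n (hn : n ≤ N), ∃ x ∈ Hom Q M n, omT θ M (T n hn) x 1 ≠ 0 ∧
      ∀ g : G n, g ≠ 1 → omT θ M (T n hn) x g = 0 := fun n hn => by
    obtain ⟨x, hx, h0, h1⟩ := exists_one_typ ctx hn (T n hn)
    exact ⟨x, hx, h1, h0⟩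
  have hE : EInt θ T := eInt_of C ρ hT
  have hb : ∀ (n m : ℕ) (hn : n ≤ N), n ≤ m → (h n hn).rz.Bij m :=
    rz_bij (θ := θ) (Q := Q) (M := M) (N := N) (G := G) (T := T) (p := p) H521.GU.i2s ctx hE hW h hdel
  have hg : ∀ n (hn : n ≤ N), Gr (h n hn).rz := fun n hn => (h n hn).gr H521.GU.i2s
  let t : Tow θ Q M N p G :=
    { T := T
      hyp := h
      gr := hg
      bij := hb
      preg := fun n hn g hg => (hpr n hn g).2 hg }
  exact ⟨t, rfl⟩

end gen

section U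

variable {F : Type u} [Field F] [Fintype F] {K : Type v} [Field K] [Algebra F K] {θ : K →*₀ ℂ} {M N q p : ℕ} [NeZero M]

/-- **the tower of the unitary groups** -/
theorem towU (hF : Fintype.card F = q ^ 2) (ctx : CtxQ θ (-(q : ℤ)) M N) {M' : ℕ} (C : H614.GLn.Ctx F θ N M')
    (hp : p.Prime) (hpF : (p : F) ≠ 0) :
    ∃ t : Tow θ (-(q : ℤ)) M N p (fun n => GU n F q), ∀ n hn, IsTypU q n (t.T n hn) := by
  have := ctx.finK
  have hK : ∀ k, 0 < k → k ≤ N → ((-(q : ℤ)) ^ k - 1) ∣ (Nat.card Kˣ : ℤ) := by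
    rw [ctx.card]
    exact ctx.dvd
  have hq : q ≠ 0 := by
    rintro rfl
    rw [zero_pow two_ne_zero] at hF
    exact Fintype.card_ne_zero hF
  obtain ⟨t, ht⟩ := exists_tow (G := fun n => GU n F q) ctx C hp hpF
    (fun n hn => H794.GUT.typeDataK hF hK n hn) (fun n => (GU n F q).subtype) (fun n => Subtype.val_injective)
    (fun n hn g y => H794.GUT.typeDataK_typ hF hK hn g y)
    (fun n m hn hm => OddOrderCharacters.VChar.gen_of_char (H794.GUT.weilK hF hK hq n m hn hm))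
  exact ⟨t, fun n hn g x => by rw [ht]; exact H794.GUT.typeDataK_typ hF hK hn g x⟩

/-- **the tower of the linear groups** -/
theorem towG (ctx : CtxQ θ (Fintype.card F : ℤ) M N) {M' : ℕ} (C : H614.GLn.Ctx F θ N M')
    (hp : p.Prime) (hpF : (p : F) ≠ 0) :
    ∃ t : Tow θ (Fintype.card F : ℤ) M N p (fun n => GL (Fin n) F), ∀ n hn (A : GL (Fin n) F) (x : Kˣ),
      (t.T n hn).typ A (Quotient.mk (orbSetoid K (Fintype.card F : ℤ)) x) = mcol A.1 (x : K) := by
  have := ctx.finK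
  have hs : ∀ n, n ≤ N → ∀ h : F[X], h.Monic → h.natDegree ≤ n → (h.map (algebraMap F K)).Splits :=
    fun n hn h h1 h2 => C.spl h h1 (h2.trans hn)
  obtain ⟨t, ht⟩ := exists_tow (G := fun n => GL (Fin n) F) ctx C hp hpF
    (fun n hn => typeGL K (hs n hn)) (fun n => MonoidHom.id _) (fun n => Function.injective_id)
    (fun n hn g y => typeGL_mk (hs n hn) g y)
    (fun n m hn hm => weil_gl (hs n hn) (hs m hm))
  exact ⟨t, fun n hn A x => by rw [ht]; exact typeGL_mk (hs n hn) A x⟩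

open Classical in
/-- the hypothesis `htau1` of `GB5.Rz.sameBlock_of_fam` for the unitary tower -/
theorem tau1_U (ctx : CtxQ θ (-(q : ℤ)) M N) {M' : ℕ} (C : H614.GLn.Ctx F θ N M') (hp : p.Prime) (hpF : (p : F) ≠ 0)
    {n : ℕ} (hn : n ≤ N) {T : TypeData (dOrb K (-(q : ℤ))) (-(q : ℤ)) (GU n F q) n} (hT : IsTypU q n T)
    (x : RS M) (hx : x ∈ Hom (-(q : ℤ)) M n) (g : GU n F q) :
    omT θ M T (H941.GLn.FamOne.tau1 (-(q : ℤ)) M p x) g = (if p ^ 2 ∣ orderOf g then 0 else 1) * omT θ M T x g :=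
  tau1_of ctx C hp hpF hn T (GU n F q).subtype Subtype.val_injective hT x hx g

end U

end Cfsg.Agent.H941.GU
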